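import Cfsg.Agent.DicksonPSL2.Orders

/-!
# The element orders of `PSL(2, q)`
-/

set_option autoImplicit false
set_option linter.style.haveILetI false

namespace CfsgLib.PSLTwoSpectrum

open Matrix CfsgLib.SL2Trace CfsgLib.DicksonPSL2
open CfsgLib.SL2Tori (tr)
open scoped MatrixGroups

variable {F : Type*} [Field F] [Fintype F]

omit [Fintype F] in
/-- An element of trace two has `p`-th power one. -/
theorem pow_char_of_tr (p : ℕ) [Fact p.Prime] [CharP F p] (g : SL(2, F)) (h : tr g = 2) :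
    g ^ p = 1 := by
  have hc := cayley g 2 h
  have hsq : ((g : Matrix (Fin 2) (Fin 2) F) - 1) ^ 2 = 0 := by
    rw [← hc, pow_two, pow_two, sub_mul, mul_sub, mul_sub, one_mul, mul_one, mul_one, two_smul]
    abel
  haveI : CharP (Matrix (Fin 2) (Fin 2) F) p := inferInstance
  have h0 : ((g : Matrix (Fin 2) (Fin 2) F) - 1) ^ p = 0 :=
    pow_eq_zero_of_le (Fact.out : p.Prime).two_le hsq
  rw [sub_pow_char_of_commute (p := p) (h := Commute.one_right _), one_pow, sub_eq_zero] at h0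
  exact Subtype.ext (by rw [Matrix.SpecialLinearGroup.coe_pow, h0]; rfl)

/-- Every order divides `p`, `(q + 1) / d` or `(q - 1) / d`. -/
theorem orderOf_dvd_cases (p : ℕ) [Fact p.Prime] [CharP F p] (x : PSL(2, F)) :
    orderOf x ∣ p ∨ orderOf x ∣ (Fintype.card F + 1) / Nat.gcd 2 (Fintype.card F - 1) ∨
      orderOf x ∣ (Fintype.card F - 1) / Nat.gcd 2 (Fintype.card F - 1) := by
  have hd : 0 < Nat.gcd 2 (Fintype.card F - 1) := Nat.gcd_pos_of_pos_left _ two_pos
  by_cases hx : IsTor x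
  · have hdvd := Subgroup.orderOf_dvd_natCard (torus x) (self_mem_torus x)
    have hct := card_torus hx
    generalize Nat.gcd 2 (Fintype.card F - 1) = d at hd hct ⊢
    rcases hct with e | e
    · refine Or.inr (Or.inr ?_)
      rwa [← e, Nat.mul_div_cancel_left _ hd]
    · refine Or.inr (Or.inl ?_)
      rwa [← e, Nat.mul_div_cancel_left _ hd]
  left
  obtain ⟨g, rfl⟩ := proj_surjective x
  rw [isTor_proj, not_not] at hx
  obtain ⟨g', hgg, ht⟩ : ∃ g' : SL(2, F), proj g' = proj g ∧ tr g' = 2 := by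
    rcases sq_eq_sq_iff_eq_or_eq_neg.1 (show tr g ^ 2 = 2 ^ 2 by rw [hx]; norm_num) with e | e
    · exact ⟨g, rfl, e⟩
    · exact ⟨-g, proj_neg g, by rw [tr_neg, e, neg_neg]⟩
  refine orderOf_dvd_of_pow_eq_one ?_
  rw [← hgg, show proj g' = projHom g' from rfl, ← map_pow, pow_char_of_tr p g' ht, map_one]

/-- Elements of the two maximal semisimple orders. -/
theorem exists_orders (h : 4 ≤ Fintype.card F) :
    (∃ x : PSL(2, F), orderOf x = (Fintype.card F + 1) / Nat.gcd 2 (Fintype.card F - 1)) ∧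
      ∃ x : PSL(2, F), orderOf x = (Fintype.card F - 1) / Nat.gcd 2 (Fintype.card F - 1) := by
  have hd : 0 < Nat.gcd 2 (Fintype.card F - 1) := Nat.gcd_pos_of_pos_left _ two_pos
  have key : ∀ {x : PSL(2, F)} {n : ℕ}, IsTor x →
      Nat.gcd 2 (Fintype.card F - 1) * Nat.card (torus x) = n →
      ∃ y : PSL(2, F), orderOf y = n / Nat.gcd 2 (Fintype.card F - 1) := by
    intro x n hx e
    haveI := isCyclic_torus hx
    obtain ⟨y, hy⟩ := IsCyclic.exists_ofOrder_eq_natCard (α := torus x)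
    refine ⟨y, ?_⟩
    generalize Nat.gcd 2 (Fintype.card F - 1) = d at hd e ⊢
    rw [← e, Nat.mul_div_cancel_left _ hd, Subgroup.orderOf_coe, hy]
  obtain ⟨x, hx, hxc, -⟩ := exists_torus_plus F
  obtain ⟨y, hy, -, hyc⟩ := exists_torus_minus F h
  exact ⟨key hx hxc, key hy hyc⟩

end CfsgLib.PSLTwoSpectrum
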