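import Cfsg.Agent.PSLTwoSpectrum.Zass
import Cfsg.Agent.PSLTwoSpectrum.Orders
import Cfsg.Agent.Linear.Perfect
import Cfsg.Agent.Classification.SimpleSixty
import Cfsg.Agent.S0338
import Cfsg.Agent.S0340
import Cfsg.Agent.S0731
import Cfsg.Agent.S0738

/-!
# `PSL(2, q)` by its order and element orders
-/

set_option autoImplicit false
set_option linter.style.haveILetI false

namespace CfsgLib.PSLTwoSpectrum

open scoped MatrixGroups
open MulAction

universe u v

variable {G : Type u} [Group G] [Finite G] {F : Type v} [Field F] [Fintype F] {p f : ℕ}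

omit [Finite G] in
theorem Data.of_spectrum (hF : 3 < Fintype.card F) (hp : p.Prime) [CharP F p]
    (hq : Fintype.card F = p ^ f)
    (hs : Set.range (orderOf : G → ℕ) = Set.range (orderOf : PSL(2, F) → ℕ))
    (hc : Nat.card G = Nat.card PSL(2, F)) : Data G p f := by
  haveI := Fact.mk hp
  have key : ∀ n : ℕ, (∃ x : PSL(2, F), orderOf x = n) → ∃ g : G, orderOf g = n :=
    fun n hn => (Set.ext_iff.1 hs n).2 hn
  obtain ⟨e₁, e₂⟩ := exists_orders (F := F) hF
  refine ⟨hp, ?_, hq ▸ hF, ?_, ?_, ?_, ?_⟩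
  · by_contra hf
    rw [show f = 0 by omega, pow_zero] at hq
    omega
  · have h1 := CfsgLib.Linear.card_PSL_two_mul (F := F)
    rw [hq, ← hc] at h1
    rw [h1]
    congr 1
    rw [mul_comm, ← Nat.sq_sub_sq, one_pow]
  · intro g
    obtain ⟨x, hx⟩ : orderOf g ∈ Set.range (orderOf : PSL(2, F) → ℕ) := hs ▸ ⟨g, rfl⟩
    rw [← hx, ← hq]
    exact orderOf_dvd_cases p x
  · rw [← hq]; exact key _ e₁
  · rw [← hq]; exact key _ e₂

theorem eq_of_equiv_even {K : Type} [Field K] [Fintype K]
    (hF : 3 < Fintype.card F) (h2 : Even (Fintype.card F))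
    (hc : Nat.card G = Nat.card PSL(2, F)) [IsSimpleGroup G] (e : G ≃* PSL(2, K)) :
    Nonempty (G ≃* PSL(2, F)) := by
  have h1 : Nat.card PSL(2, K) = Fintype.card F * (Fintype.card F ^ 2 - 1) := by
    rw [← Nat.card_congr e.toEquiv, hc, CfsgLib.Linear.card_PSL_two_even h2]
  by_cases hK : Even (Fintype.card K)
  · rw [CfsgLib.Linear.card_PSL_two_even hK] at h1
    have hKF : Fintype.card K = Fintype.card F := by
      have mono : ∀ a b : ℕ, 2 ≤ a → a < b → a * (a ^ 2 - 1) < b * (b ^ 2 - 1) := fun a b ha hab =>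
        Nat.mul_lt_mul_of_lt_of_le hab (Nat.sub_le_sub_right (Nat.pow_le_pow_left hab.le 2) 1)
          (by have : 2 ^ 2 ≤ b ^ 2 := Nat.pow_le_pow_left (by omega) 2; omega)
      rcases Nat.lt_trichotomy (Fintype.card K) (Fintype.card F) with hl | hl | hl
      · exact absurd h1 (mono _ _ Fintype.one_lt_card hl).ne
      · exact hl
      · exact absurd h1.symm (mono _ _ Fintype.one_lt_card hl).ne
    exact ⟨e.trans (CfsgLib.Linear.pslFieldCongr hKF)⟩
  · -- only `q = 4` against `5`
    rw [Nat.not_even_iff_odd] at hK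
    have h3 := CfsgLib.Linear.card_PSL_two_odd hK
    rw [h1] at h3
    set q := Fintype.card F
    set r := Fintype.card K
    have hr1 : 2 ≤ r := Fintype.one_lt_card
    have hq4 : q = 4 := by
      -- q is a power of two dividing (r - 1) or (r + 1)
      obtain ⟨n, hn⟩ : ∃ n, q = 2 ^ n := by
        obtain ⟨s, hs⟩ := CharP.exists F
        obtain ⟨n, hsp, hn⟩ := FiniteField.card F s
        have : s = 2 := ((Nat.prime_dvd_prime_iff_eq Nat.prime_two hsp).1
          (Nat.prime_two.dvd_of_dvd_pow (show 2 ∣ s ^ (n : ℕ) by rw [← hn]; exact h2.two_dvd))).symm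
        exact ⟨n, this ▸ hn⟩
      obtain ⟨k, hk⟩ := hK
      have hsq : r ^ 2 - 1 = 4 * (k * (k + 1)) := by
        rw [hk]; exact Nat.sub_eq_of_eq_add (by ring)
      rw [hsq] at h3
      have hkk : 2 * q ∣ 4 * (k * (k + 1)) :=
        (Nat.Coprime.dvd_of_dvd_mul_left (k := 2 * q) (m := r) (Nat.Coprime.mul_left
          (Nat.prime_two.coprime_iff_not_dvd.2 (by omega)) (by
            rw [hn]
            exact Nat.Coprime.pow_left n (Nat.prime_two.coprime_iff_not_dvd.2 (by omega))))
          ⟨q ^ 2 - 1, by rw [← h3]; ring⟩)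
      have hlt : r < 2 * q := by
        by_contra hge
        have h5 : (2 * q) * (4 * (k * (k + 1))) ≤ r * (4 * (k * (k + 1))) :=
          Nat.mul_le_mul_right _ (by omega)
        have h6 : q ^ 2 - 1 < 4 * (k * (k + 1)) := by
          rw [← hsq]
          have : (q + 1) ^ 2 ≤ r ^ 2 := Nat.pow_le_pow_left (by omega) 2
          nlinarith [Nat.sub_add_cancel (Nat.one_le_pow 2 q (by omega)), Nat.sub_add_cancel (Nat.one_le_pow 2 r (by omega))]
        nlinarith
      -- half of `q` divides one of the two coprime factors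
      have hn2 : 2 ≤ n := by
        by_contra hn2
        have : 2 ^ n ≤ 2 ^ 1 := Nat.pow_le_pow_right two_pos (by omega)
        omega
      obtain ⟨m, rfl⟩ : ∃ m, n = m + 1 := ⟨n - 1, by omega⟩
      have hdd : 2 ^ m ∣ k * (k + 1) := by
        rw [hn, pow_succ, show 2 * (2 ^ m * 2) = 4 * 2 ^ m by ring] at hkk
        exact Nat.dvd_of_mul_dvd_mul_left (by omega) hkk
      have hm2 : 2 ≤ 2 ^ m := Nat.le_self_pow (by omega) 2
      rw [pow_succ] at hn
      have hdd' : 2 ^ m ∣ k ∨ 2 ^ m ∣ k + 1 := by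
        by_cases h2k : 2 ∣ k
        · exact Or.inl ((Nat.Coprime.pow_left m (Nat.prime_two.coprime_iff_not_dvd.2 (by omega))).dvd_of_dvd_mul_right hdd)
        · exact Or.inr ((Nat.Coprime.pow_left m (Nat.prime_two.coprime_iff_not_dvd.2 h2k)).dvd_of_dvd_mul_left hdd)
      have hk1 : 1 ≤ k := by omega
      -- so `r` is one of `q + 1`, `q - 1`, `2 q - 1`
      have hr : r = q + 1 ∨ r = q - 1 ∨ r = 2 * q - 1 := by
        rcases hdd' with ⟨c, hc⟩ | ⟨c, hc⟩
        · have : c < 2 := by nlinarith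
          interval_cases c <;> omega
        · have : c < 3 := by nlinarith
          interval_cases c <;> omega
      rw [← hsq] at h3
      have hq2 : 1 ≤ q ^ 2 := Nat.one_le_pow _ _ (by omega)
      have hr2 : 1 ≤ r ^ 2 := Nat.one_le_pow _ _ (by omega)
      zify [hq2, hr2] at h3
      rcases hr with hr | hr | hr <;>
        · have hr' := congrArg (Nat.cast (R := ℤ)) hr
          push_cast [show 1 ≤ q by omega, show 1 ≤ 2 * q by omega] at hr'
          rw [hr'] at h3
          have h4q : (4 : ℤ) ≤ (q : ℤ) := by exact_mod_cast hF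
          have : (q : ℤ) = 4 := by nlinarith
          omega
    haveI : IsSimpleGroup PSL(2, F) := CfsgLib.Linear.isSimpleGroup_PSL_of 2 le_rfl fun _ => hF
    have h60 : Nat.card G = 60 := by
      rw [hc, CfsgLib.Linear.card_PSL_two_even h2, show Fintype.card F = 4 from hq4]
      norm_num
    obtain ⟨e₁⟩ := CfsgLib.Classification.nonempty_equiv_alternating_five (G := G) h60
    obtain ⟨e₂⟩ := CfsgLib.Classification.nonempty_equiv_alternating_five (G := PSL(2, F)) (hc ▸ h60)
    exact ⟨e₁.trans e₂.symm⟩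

theorem nonempty_equiv (hF : 3 < Fintype.card F)
    (hs : Set.range (orderOf : G → ℕ) = Set.range (orderOf : PSL(2, F) → ℕ))
    (hc : Nat.card G = Nat.card PSL(2, F)) : Nonempty (G ≃* PSL(2, F)) := by
  classical
  obtain ⟨p, hchar⟩ := CharP.exists F
  obtain ⟨f, hp, hq⟩ := FiniteField.card F p
  haveI := Fact.mk hp
  have h : Data G p (f : ℕ) := Data.of_spectrum hF hp hq hs hc
  haveI := Fintype.ofFinite (Sylow p G)
  have hZ := h.isZassenhaus
  obtain ⟨a⟩ : Nonempty (Sylow p G) := inferInstance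
  have hn : Fintype.card (Sylow p G) = p ^ (f : ℕ) + 1 := by
    rw [← Nat.card_eq_fintype_card]; exact (h.sylow_data a).1
  rcases h.gcd_cases with ⟨hp2, -⟩ | ⟨hp2, hd, hodd⟩
  · subst hp2
    have h2 : Even (Fintype.card F) := hq ▸ Nat.even_pow.2 ⟨even_two, f.2.ne'⟩
    haveI : IsSimpleGroup G := Cfsg.Agent.S0338.result hZ (by
      rw [hn, ← hq]; exact h2.add_one)
    rcases Cfsg.Agent.S0340.result hZ with ⟨K, iK, iKf, ⟨e⟩⟩ | ⟨-, m, hm, hcard⟩
    · exact eq_of_equiv_even hF h2 hc e
    · exfalso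
      rw [hc, CfsgLib.Linear.card_PSL_two_even h2] at hcard
      set q := Fintype.card F
      set s := 2 ^ (2 * m + 1) with hs
      have h2s : q ∣ s ^ 2 := by
        refine (Nat.Coprime.dvd_of_dvd_mul_right (n := (s ^ 2 + 1) * (s - 1)) ?_
          ⟨q ^ 2 - 1, by rw [hcard]; ring⟩)
        rw [hq]
        have h2sd : 2 ∣ s := dvd_pow_self 2 (by omega)
        have h2sd' : 2 ∣ s ^ 2 := h2sd.trans (dvd_pow_self s two_ne_zero)
        refine Nat.Coprime.pow_left _ (Nat.Coprime.mul_right
          (Nat.prime_two.coprime_iff_not_dvd.2 ?_) (Nat.prime_two.coprime_iff_not_dvd.2 ?_))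
        · omega
        · have : 0 < s := pow_pos two_pos _
          omega
      have hs2 : s ^ 2 ∣ q := by
        refine Nat.Coprime.dvd_of_dvd_mul_right (n := q ^ 2 - 1) ?_
          ⟨(s ^ 2 + 1) * (s - 1), by rw [hcard]; ring⟩
        rw [hs, ← pow_mul]
        refine Nat.Coprime.pow_left _ (Nat.prime_two.coprime_iff_not_dvd.2 fun h2' => ?_)
        have h4 : 2 ∣ q ^ 2 := h2.two_dvd.trans (dvd_pow_self q two_ne_zero)
        have : 0 < q ^ 2 := pow_pos (by omega) 2
        omega
      have heq := Nat.dvd_antisymm h2s hs2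
      rw [heq] at hcard
      have hs8 : 8 ≤ s := hs ▸ (Nat.pow_le_pow_right two_pos (show 3 ≤ 2 * m + 1 by omega))
      have h5 : (s ^ 2) ^ 2 - 1 = (s ^ 2 + 1) * (s ^ 2 - 1) := by rw [← Nat.sq_sub_sq, one_pow]
      rw [h5, mul_assoc] at hcard
      have h6 := Nat.eq_of_mul_eq_mul_left (by omega) (Nat.eq_of_mul_eq_mul_left (by positivity) hcard)
      have : s * 2 ≤ s ^ 2 := by nlinarith
      omega
  · obtain ⟨b, hb⟩ := h.exists_ne_sylow a
    have hle : (a : Subgroup G) ≤ stabilizer G a := fun u hu => Data.smul_self hu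
    haveI hnor : ((a : Subgroup G).subgroupOf (stabilizer G a)).Normal :=
      (Subgroup.normal_subgroupOf_iff_le_normalizer hle).2 fun g hg =>
        Sylow.smul_eq_iff_mem_normalizer.1 hg
    have hreg : ∀ y z : Sylow p G, y ≠ a → z ≠ a → ∃! u : (a : Subgroup G), (u : G) • y = z :=
      fun y z => h.existsUnique_smul
    have hab := (Cfsg.Agent.S0738.result hZ (Ne.symm hb)
      (by have := h.le_card_stabilizer (Ne.symm hb); rw [hn]; omega) (a : Subgroup G) hle hnor hreg).1
    rcases Cfsg.Agent.S0731.result hZ a (a : Subgroup G) hle hnor hab hreg with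
      ⟨h3, hstab⟩ | ⟨K, iK, iKf, hK2, ⟨e⟩⟩
    · exfalso
      haveI := h3
      obtain ⟨t⟩ : Nonempty (Fin 3 ↪ Sylow p G) :=
        Function.Embedding.nonempty_of_card_le (by rw [Fintype.card_fin, hn]; have := h.q_gt; omega)
      have h4 := MulAction.index_stabilizer_of_transitive G t
      rw [hstab t, Subgroup.index_bot, Nat.card_eq_fintype_card (α := Fin 3 ↪ Sylow p G),
        Fintype.card_embedding_eq, Fintype.card_fin, hn] at h4
      have h5 : (p ^ (f : ℕ) + 1).descFactorial 3 = p ^ (f : ℕ) * ((p ^ (f : ℕ) - 1) * (p ^ (f : ℕ) + 1)) := by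
        simp [Nat.descFactorial_succ]
        ring
      have h6 := h.card
      rw [hd, h4, h5] at h6
      have hq' := h.q_gt
      have : 0 < p ^ (f : ℕ) * ((p ^ (f : ℕ) - 1) * (p ^ (f : ℕ) + 1)) :=
        Nat.mul_pos (by omega) (Nat.mul_pos (by omega) (by omega))
      omega
    · have hKodd : Odd (Fintype.card K) := Nat.odd_iff.2 (FiniteField.odd_card_of_char_ne_two hK2)
      have h1 := CfsgLib.Linear.card_PSL_two_odd hKodd
      rw [← Nat.card_congr e.toEquiv, hc, CfsgLib.Linear.card_PSL_two_odd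
        (Nat.odd_iff.2 (hq ▸ hodd))] at h1
      have hKF : Fintype.card K = Fintype.card F := by
        have mono : ∀ a b : ℕ, 2 ≤ a → a < b → a * (a ^ 2 - 1) < b * (b ^ 2 - 1) := fun a b ha hab =>
          Nat.mul_lt_mul_of_lt_of_le hab (Nat.sub_le_sub_right (Nat.pow_le_pow_left hab.le 2) 1)
            (by have : 2 ^ 2 ≤ b ^ 2 := Nat.pow_le_pow_left (by omega) 2; omega)
        rcases Nat.lt_trichotomy (Fintype.card K) (Fintype.card F) with hl | hl | hl
        · exact absurd h1.symm (mono _ _ Fintype.one_lt_card hl).ne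
        · exact hl
        · exact absurd h1 (mono _ _ Fintype.one_lt_card hl).ne
      exact ⟨e.trans (CfsgLib.Linear.pslFieldCongr hKF)⟩

end CfsgLib.PSLTwoSpectrum
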