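import Mathlib

/-!
# A prime isolated among the element orders, with a nontrivial normal `p`-subgroup

If every element of order divisible by `p` has order `p`, `p` is odd and the Sylow subgroups for the
other odd primes are cyclic, then a group with a nontrivial normal `p`-subgroup has a normal Sylow
`p`-subgroup.
-/

set_option autoImplicit false
set_option linter.style.haveILetI false

namespace CfsgLib.PSLTwoSpectrum

/-- Elements of order divisible by `p` have order `p`. -/
def Isolated (p : ℕ) (G : Type*) [Group G] : Prop := ∀ g : G, p ∣ orderOf g → orderOf g = p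

variable {G : Type*} [Group G] {p : ℕ}

lemma Isolated.subgroup (h : Isolated p G) (H : Subgroup G) : Isolated p H := fun g hg => by
  rw [← Subgroup.orderOf_coe] at hg ⊢
  exact h _ hg

lemma Isolated.quotient [Finite G] (h : Isolated p G) (N : Subgroup G) [N.Normal] :
    Isolated p (G ⧸ N) := by
  intro g hg
  obtain ⟨x, rfl⟩ := QuotientGroup.mk'_surjective N g
  have hd := orderOf_map_dvd (QuotientGroup.mk' N) x
  have hx := h x (hg.trans hd)
  rw [hx] at hd
  exact Nat.dvd_antisymm hd hg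

lemma Isolated.pow_eq_one [Finite G] (h : Isolated p G) (hp : p.Prime) {x y : G}
    (hx : orderOf x = p) (hc : Commute x y) : y ^ p = 1 := by
  by_cases hd : p ∣ orderOf y
  · rw [← h y hd, pow_orderOf_eq_one]
  · have hcop : (orderOf x).Coprime (orderOf y) := hx ▸ hp.coprime_iff_not_dvd.2 hd
    have hxy := hc.orderOf_mul_eq_mul_orderOf_of_coprime hcop
    rw [hx] at hxy
    have h1 := h (x * y) (hxy ▸ dvd_mul_right _ _)
    rw [hxy] at h1
    rw [orderOf_eq_one_iff.1 ((Nat.mul_eq_left hp.ne_zero).1 h1), one_pow]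

lemma Isolated.orderOf_eq [Finite G] (h : Isolated p G) [Fact p.Prime] {P : Subgroup G}
    (hP : IsPGroup p P) {x : G} (hx : x ∈ P) (hx1 : x ≠ 1) : orderOf x = p := by
  obtain ⟨k, hk⟩ := IsPGroup.iff_orderOf.1 hP ⟨x, hx⟩
  rw [Subgroup.orderOf_mk] at hk
  refine h x (hk ▸ dvd_pow_self p fun e => hx1 (orderOf_eq_one_iff.1 ?_))
  rw [hk, e, pow_zero]

variable {L : Type*} [Group L] [Finite L] {V : Type*} [CommGroup V] [Finite V]

omit [Finite V] in
/-- An element of order `p` normalises no nontrivial `p'`-subgroup, when its norm on `V` is trivial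
and `p'`-elements act without fixed points. -/
theorem false_of_normalized (hp : p.Prime) (h : Isolated p L) (φ : L →* MulAut V)
    (hfpf : ∀ l : L, l ≠ 1 → ¬ p ∣ orderOf l → ∀ v : V, φ l v = v → v = 1)
    (hnorm : ∀ l : L, orderOf l = p → ∀ v : V, ∏ i ∈ Finset.range p, φ (l ^ i) v = 1)
    (hV : IsPGroup p V) [Nontrivial V] {x : L} (hx : orderOf x = p) {C : Subgroup L}
    (hxC : x ∈ Subgroup.normalizer (C : Set L)) (hC : ¬ p ∣ Nat.card C) (hne : C ≠ ⊥) : False := by
  classical
  haveI := Fintype.ofFinite C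
  have hCord : ∀ c ∈ C, ¬ p ∣ orderOf c := fun c hc hd =>
    hC (hd.trans (Subgroup.orderOf_dvd_natCard C hc))
  obtain ⟨c₀, hc₀, hc₀1⟩ := (Subgroup.bot_or_exists_ne_one C).resolve_left hne
  have hT : ∀ v : V, ∏ c : C, φ c v = 1 := by
    intro v
    refine hfpf c₀ hc₀1 (hCord c₀ hc₀) _ ?_
    rw [map_prod]
    refine Fintype.prod_equiv (Equiv.mulLeft (⟨c₀, hc₀⟩ : C)) _ _ fun c => ?_
    rw [Equiv.coe_mulLeft, Subgroup.coe_mul, map_mul, MulAut.mul_apply]
  obtain ⟨v, hv⟩ := exists_ne (1 : V)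
  have key : v ^ Fintype.card C = 1 := by
    have h0 : ∏ c : C, ∏ i ∈ Finset.range p, φ (((c : L) * x * (c : L)⁻¹) ^ i) v = 1 :=
      Finset.prod_eq_one fun c _ => hnorm _ (by
        rw [← MulAut.conj_apply, MulEquiv.orderOf_eq, hx]) v
    rw [Finset.prod_comm, Finset.prod_eq_single 0] at h0
    · simpa using h0
    · intro i hi hi0
      set y := x ^ i with hy
      have hyo : orderOf y = p := by
        rw [hy, (Nat.Coprime.orderOf_pow (hx ▸ ?_ : (orderOf x).Coprime i)), hx]
        exact hp.coprime_iff_not_dvd.2 fun hd =>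
          absurd (Nat.le_of_dvd (Nat.pos_of_ne_zero hi0) hd) (not_le.2 (Finset.mem_range.1 hi))
      have hyC : y ∈ Subgroup.normalizer (C : Set L) := pow_mem hxC i
      let g : C → C := fun c => ⟨(c : L) * (y * (c : L)⁻¹ * y⁻¹),
        mul_mem c.2 ((Subgroup.mem_normalizer_iff.1 hyC _).1 (inv_mem c.2))⟩
      have hg : Function.Bijective g := by
        refine Finite.injective_iff_bijective.1 fun c c' e => ?_
        have e' : (c : L) * (y * (c : L)⁻¹ * y⁻¹) = (c' : L) * (y * (c' : L)⁻¹ * y⁻¹) :=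
          congrArg Subtype.val e
        have hcomm : Commute y ((c' : L)⁻¹ * c) := by
          refine (mul_inv_eq_iff_eq_mul.1 ?_)
          calc y * ((c' : L)⁻¹ * c) * y⁻¹ = (c' : L)⁻¹ * ((c' : L) * (y * (c' : L)⁻¹ * y⁻¹)) *
                (y * c * y⁻¹) := by group
            _ = (c' : L)⁻¹ * c := by rw [← e']; group
        have h1 := h.pow_eq_one hp hyo hcomm
        have h2 : (c' : L)⁻¹ * c = 1 := by
          by_contra hne
          have := orderOf_eq_prime (hp := ⟨hp⟩) h1 hne
          exact hCord _ (mul_mem (inv_mem c'.2) c.2) (this ▸ dvd_rfl)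
        exact (Subtype.ext (inv_mul_eq_one.1 h2)).symm
      calc ∏ c : C, φ (((c : L) * x * (c : L)⁻¹) ^ i) v
          = ∏ c : C, φ (g c : L) (φ y v) := Finset.prod_congr rfl fun c _ => by
            rw [← MulAut.mul_apply, ← map_mul, conj_pow, ← hy]
            congr 2
            show (c : L) * y * (c : L)⁻¹ = (c : L) * (y * (c : L)⁻¹ * y⁻¹) * y
            group
        _ = ∏ c : C, φ (c : L) (φ y v) :=
          Fintype.prod_bijective g hg _ _ fun c => rfl
        _ = 1 := hT _
    · exact fun h' => absurd (Finset.mem_range.2 hp.pos) h'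
  have hcop : Nat.Coprime p (Fintype.card C) :=
    hp.coprime_iff_not_dvd.2 (Nat.card_eq_fintype_card (α := C) ▸ hC)
  obtain ⟨k, hk⟩ := hV v
  exact hv (orderOf_eq_one_iff.1 (Nat.eq_one_of_dvd_coprimes (hcop.pow_left k)
    (orderOf_dvd_of_pow_eq_one hk) (orderOf_dvd_of_pow_eq_one key)))

omit [Finite V] in
/-- No element of order `p` normalises a Sylow subgroup for another prime, so a minimal normal
subgroup of index prime to `p` has a normal complement for its smallest prime other than `p`. -/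
theorem not_dvd_card (hp : p.Prime) (h : Isolated p L) (φ : L →* MulAut V)
    (hfpf : ∀ l : L, l ≠ 1 → ¬ p ∣ orderOf l → ∀ v : V, φ l v = v → v = 1)
    (hnorm : ∀ l : L, orderOf l = p → ∀ v : V, ∏ i ∈ Finset.range p, φ (l ^ i) v = 1)
    (hV : IsPGroup p V) [Nontrivial V]
    (hcyc : ∀ (r : ℕ) [Fact r.Prime], r ≠ p → ∀ R : Subgroup L, IsPGroup r R → IsCyclic R)
    (hcore : ∀ R : Subgroup L, R.Normal → IsPGroup p R → R = ⊥) : ¬ p ∣ Nat.card L := by
  classical
  intro hpL
  obtain ⟨M, ⟨hMn, hMidx⟩, hMmin⟩ := Set.Finite.exists_minimal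
    (s := {M : Subgroup L | M.Normal ∧ ¬ p ∣ M.index}) (Set.toFinite _)
    ⟨⊤, inferInstance, by rw [Subgroup.index_top]; exact hp.not_dvd_one⟩
  haveI := hMn
  have hpM : p ∣ Nat.card M := by
    rw [← M.card_mul_index] at hpL
    exact (hp.dvd_mul.1 hpL).resolve_right hMidx
  by_cases hMp : ∀ r : ℕ, r.Prime → r ∣ Nat.card M → r = p
  · haveI := Fact.mk hp
    have hM : IsPGroup p M := IsPGroup.of_card (n := (Nat.card M).primeFactorsList.length)
      (Nat.eq_prime_pow_of_unique_prime_dvd Nat.card_pos.ne' fun {d} hd hdd => hMp d hd hdd)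
    rw [hcore M hMn hM, Subgroup.card_bot] at hpM
    exact hp.not_dvd_one hpM
  push Not at hMp
  have hex : ∃ r, r.Prime ∧ r ∣ Nat.card M ∧ r ≠ p := hMp
  obtain ⟨hr, hrM, hrp⟩ := Nat.find_spec hex
  set r := Nat.find hex with hrdef
  haveI := Fact.mk hr
  obtain ⟨S⟩ : Nonempty (Sylow r M) := inferInstance
  set S' := (S : Subgroup M).map M.subtype with hS'
  have hS'r : IsPGroup r S' := S.isPGroup'.map _
  have hSne : (S : Subgroup M) ≠ ⊥ := S.ne_bot_of_dvd_card hrM
  haveI : IsCyclic S' := hcyc r hrp S' hS'r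
  haveI hScyc : IsCyclic (S : Subgroup M) :=
    isCyclic_of_surjective _ ((S : Subgroup M).equivMapOfInjective _ M.subtype_injective).symm.surjective
  -- the normaliser has order prime to `p`, so is centralised
  have hpN : ¬ p ∣ Nat.card (Subgroup.normalizer ((S : Subgroup M) : Set M)) := by
    intro hd
    haveI := Fact.mk hp
    obtain ⟨y, hy⟩ := exists_prime_orderOf_dvd_card' p hd
    refine false_of_normalized hp h φ hfpf hnorm hV (x := ((y : M) : L)) (C := S')
      (by rw [Subgroup.orderOf_coe, Subgroup.orderOf_coe, hy])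
      (Subgroup.le_normalizer_map M.subtype ⟨y, y.2, rfl⟩) ?_ ?_
    · obtain ⟨k, hk⟩ := IsPGroup.iff_card.1 hS'r
      rw [hk]
      exact fun hd => hrp ((Nat.prime_dvd_prime_iff_eq hp hr).1 (hp.dvd_of_dvd_pow hd)).symm
    · exact fun e => hSne ((Subgroup.map_eq_bot_iff_of_injective _ M.subtype_injective).1 e)
  have hNC : Subgroup.normalizer ((S : Subgroup M) : Set M) ≤
      Subgroup.centralizer ((S : Subgroup M) : Set M) := by
    have key := Subgroup.card_dvd_of_injective _
      (QuotientGroup.kerLift_injective (S : Subgroup M).normalizerMonoidHom)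
    rw [Subgroup.normalizerMonoidHom_ker, ← Subgroup.index, ← Subgroup.relIndex] at key
    rw [← Subgroup.relIndex_eq_one]
    by_contra hne
    obtain ⟨q, hq, hqd⟩ := Nat.exists_prime_and_dvd hne
    have hqN := hqd.trans (Subgroup.relIndex_dvd_card (H := Subgroup.centralizer ((S : Subgroup M) : Set M))
      (K := Subgroup.normalizer ((S : Subgroup M) : Set M)))
    have hqr : r ≤ q := Nat.find_min' hex ⟨hq, hqN.trans (Subgroup.card_subgroup_dvd_card _),
      fun e => hpN (e ▸ hqN)⟩
    have hqne : q ≠ r := by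
      rintro rfl
      haveI : IsMulCommutative (S : Subgroup M) := hScyc.isMulCommutative
      exact S.not_dvd_index (hqd.trans ((Subgroup.relIndex_dvd_of_le_left _
        (Subgroup.le_centralizer _)).trans (Subgroup.relIndex_dvd_index_of_le Subgroup.le_normalizer)))
    obtain ⟨k, hk⟩ := IsPGroup.iff_card.1 S.isPGroup'
    rw [IsCyclic.card_mulAut, hk] at key
    rcases Nat.eq_zero_or_pos k with rfl | hk0
    · exact hne (Nat.dvd_one.1 (by simpa using key))
    rw [Nat.totient_prime_pow hr hk0] at key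
    rcases hq.dvd_mul.1 (hqd.trans key) with h' | h'
    · exact hqne ((Nat.prime_dvd_prime_iff_eq hq hr).1 (hq.dvd_of_dvd_pow h'))
    · have := Nat.le_of_dvd (by have := hr.two_le; omega) h'
      omega
  -- the complement contradicts minimality
  set K := (MonoidHom.transferSylow S hNC).ker with hK
  have hcompl := MonoidHom.ker_transferSylow_isComplement' S hNC
  have hKr := MonoidHom.not_dvd_card_ker_transferSylow S hNC
  have hKmem : ∀ m : M, m ∈ K ↔ (orderOf m).Coprime r := by
    intro m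
    constructor
    · intro hm
      rw [Nat.coprime_comm, hr.coprime_iff_not_dvd]
      exact fun hd => hKr (hd.trans (Subgroup.orderOf_dvd_natCard K hm))
    · intro hm
      rw [← QuotientGroup.eq_one_iff]
      obtain ⟨k, hk⟩ := IsPGroup.iff_card.1 S.isPGroup'
      refine orderOf_eq_one_iff.1 (Nat.eq_one_of_dvd_coprimes (hm.pow_right k)
        (orderOf_map_dvd (QuotientGroup.mk' K) m) ?_)
      rw [← hk, ← hcompl.symm.index_eq_card]
      exact _root_.orderOf_dvd_natCard _
  have hKn : (K.map M.subtype).Normal := by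
    refine ⟨fun y hy g => ?_⟩
    obtain ⟨m, hm, rfl⟩ := hy
    refine ⟨⟨g * (m : L) * g⁻¹, hMn.conj_mem _ m.2 g⟩, ?_, rfl⟩
    rw [SetLike.mem_coe, hKmem] at hm ⊢
    rwa [← Subgroup.orderOf_coe, Subgroup.coe_mk, ← MulAut.conj_apply, MulEquiv.orderOf_eq,
      Subgroup.orderOf_coe]
  have hle : K.map M.subtype ≤ M := Subgroup.map_subtype_le _
  have hidx : ¬ p ∣ (K.map M.subtype).index := by
    rw [Subgroup.index_map_subtype, hcompl.symm.index_eq_card]
    obtain ⟨k, hk⟩ := IsPGroup.iff_card.1 S.isPGroup'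
    rw [hk, hp.dvd_mul]
    rintro (hd | hd)
    · exact hrp ((Nat.prime_dvd_prime_iff_eq hp hr).1 (hp.dvd_of_dvd_pow hd)).symm
    · exact hMidx hd
  have hMK : M ≤ K.map M.subtype := hMmin ⟨hKn, hidx⟩ hle
  obtain ⟨z, hz⟩ := exists_prime_orderOf_dvd_card' r hrM
  obtain ⟨z', hz', hzz⟩ := hMK z.2
  obtain rfl : z' = z := M.subtype_injective hzz
  rw [SetLike.mem_coe, hKmem, hz, Nat.coprime_self] at hz'
  exact hr.ne_one hz'

/-- With a nontrivial normal `p`-subgroup, the Sylow `p`-subgroup is normal. -/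
theorem subsingleton_sylow [Finite G] [Fact p.Prime] (hp2 : p ≠ 2) (h : Isolated p G)
    (hcyc : ∀ (r : ℕ) [Fact r.Prime], r ≠ p → r ≠ 2 → ∀ R : Subgroup G, IsPGroup r R → IsCyclic R)
    {D : Subgroup G} (hDn : D.Normal) (hD : IsPGroup p D) (hne : D ≠ ⊥) :
    Subsingleton (Sylow p G) := by
  classical
  have hp : p.Prime := Fact.out
  obtain ⟨R, hDR, ⟨hRn, hR⟩, hRmax⟩ := (Set.toFinite {R : Subgroup G | R.Normal ∧ IsPGroup p R}).exists_le_maximal
    (a := D) ⟨hDn, hD⟩
  haveI := hRn
  suffices hdvd : ¬ p ∣ R.index by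
    haveI : Unique (Sylow p G) := (hR.toSylow hdvd).unique_of_normal hRn
    infer_instance
  intro hpi
  haveI : Nontrivial R := (Subgroup.nontrivial_iff_ne_bot _).2 fun e => hne (le_bot_iff.1 (e ▸ hDR))
  haveI := hR.center_nontrivial
  set Z := (Subgroup.center R).map R.subtype with hZ
  have hZR : Z ≤ R := Subgroup.map_subtype_le _
  haveI : Nontrivial Z := by
    rw [Subgroup.nontrivial_iff_ne_bot, hZ, ne_eq, Subgroup.map_eq_bot_iff_of_injective _ R.subtype_injective]
    exact (Subgroup.nontrivial_iff_ne_bot _).1 inferInstance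
  have hcent : ∀ r ∈ R, ∀ z ∈ Z, r * z = z * r := by
    rintro r hr _ ⟨c, hc, rfl⟩
    exact congrArg Subtype.val (Subgroup.mem_center_iff.1 hc ⟨r, hr⟩)
  letI : CommGroup Z :=
    { (inferInstance : Group Z) with
      mul_comm := fun a b => Subtype.ext (hcent _ (hZR a.2) _ b.2) }
  have hker : R ≤ (MulAut.conjNormal : G →* MulAut Z).ker := by
    intro r hr
    refine MonoidHom.mem_ker.2 (MulEquiv.ext fun z => Subtype.ext ?_)
    rw [MulAut.conjNormal_apply]
    exact mul_inv_eq_iff_eq_mul.2 (hcent r hr _ z.2)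
  let φ : G ⧸ R →* MulAut Z := QuotientGroup.lift R MulAut.conjNormal hker
  have hφ : ∀ (g : G) (z : Z), ((φ (g : G ⧸ R) z : Z) : G) = g * z * g⁻¹ :=
    fun g z => MulAut.conjNormal_apply g z
  have hV : IsPGroup p Z := hR.to_le hZR
  have hL := h.quotient R
  have hfpf : ∀ l : G ⧸ R, l ≠ 1 → ¬ p ∣ orderOf l → ∀ v : Z, φ l v = v → v = 1 := by
    intro l hl hlp v hv
    obtain ⟨g, rfl⟩ := QuotientGroup.mk'_surjective R l
    by_contra hv1
    have hc : g * (v : G) * g⁻¹ = v := (hφ g v).symm.trans (congrArg Subtype.val hv)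
    have hvo := h.orderOf_eq hV v.2 fun e => hv1 (Subtype.ext e)
    have hg := h.pow_eq_one hp hvo (mul_inv_eq_iff_eq_mul.1 hc).symm
    have hd : orderOf (QuotientGroup.mk' R g) ∣ p :=
      orderOf_dvd_of_pow_eq_one (by rw [← map_pow, hg, map_one])
    rcases (Nat.dvd_prime hp).1 hd with e | e
    · exact hl (orderOf_eq_one_iff.1 e)
    · exact hlp (e ▸ dvd_rfl)
  have hnorm : ∀ l : G ⧸ R, orderOf l = p → ∀ v : Z, ∏ i ∈ Finset.range p, φ (l ^ i) v = 1 := by
    intro l hl v
    obtain ⟨g, rfl⟩ := QuotientGroup.mk'_surjective R l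
    have hg : ∀ g' : G, (g' : G ⧸ R) = (g : G ⧸ R) → g' ^ p = 1 := fun g' hg' => by
      have hd : p ∣ orderOf g' := by
        rw [← hl, show QuotientGroup.mk' R g = QuotientGroup.mk' R g' from hg'.symm]
        exact orderOf_map_dvd _ g'
      rw [← h g' hd, pow_orderOf_eq_one]
    have hexpand : ∀ n : ℕ, ((v : G) * g) ^ n =
        ((∏ i ∈ Finset.range n, φ ((g : G ⧸ R) ^ i) v : Z) : G) * g ^ n := by
      intro n
      induction n with
      | zero => simp
      | succ n ih =>
        have hs : (∏ i ∈ Finset.range n, φ ((g : G ⧸ R) ^ (i + 1)) v : Z) =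
            φ (g : G ⧸ R) (∏ i ∈ Finset.range n, φ ((g : G ⧸ R) ^ i) v) := by
          rw [map_prod]
          exact Finset.prod_congr rfl fun i _ => by rw [pow_succ', map_mul, MulAut.mul_apply]
        rw [pow_succ', ih, Finset.prod_range_succ', pow_zero, map_one, MulAut.one_apply, mul_comm,
          Subgroup.coe_mul, hs, hφ, pow_succ' g]
        group
    have h1 := hexpand p
    rw [hg ((v : G) * g) (by
      rw [QuotientGroup.mk_mul, (QuotientGroup.eq_one_iff _).2 (hZR v.2), one_mul]),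
      hg g rfl, mul_one] at h1
    exact Subtype.ext h1.symm
  have hcore : ∀ S : Subgroup (G ⧸ R), S.Normal → IsPGroup p S → S = ⊥ := by
    intro S hSn hS
    have hK : IsPGroup p (S.comap (QuotientGroup.mk' R)) :=
      hS.comap_of_ker_isPGroup _ (by rwa [QuotientGroup.ker_mk'])
    have hle := hRmax ⟨hSn.comap _, hK⟩ (QuotientGroup.le_comap_mk' R S)
    rw [← Subgroup.map_comap_eq_self_of_surjective (QuotientGroup.mk'_surjective R) S,
      Subgroup.map_eq_bot_iff, QuotientGroup.ker_mk']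
    exact hle
  obtain ⟨v₀, hv₀⟩ := exists_ne (1 : Z)
  haveI : Fact (Nat.Prime p) := ⟨hp⟩
  have hinj : φ.ker = ⊥ := by
    refine hcore _ φ.normal_ker fun k => ⟨1, Subtype.ext ?_⟩
    show (k : G ⧸ R) ^ p ^ 1 = 1
    rw [pow_one]
    by_cases hd : p ∣ orderOf (k : G ⧸ R)
    · rw [← hL _ hd, pow_orderOf_eq_one]
    · by_contra hk
      exact hv₀ (hfpf _ (fun e => hk (by rw [e, one_pow])) hd v₀
        (by rw [MonoidHom.mem_ker.1 k.2]; rfl))
  obtain ⟨x, hx⟩ := exists_prime_orderOf_dvd_card' (G := G ⧸ R) p hpi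
  have hodd : ¬ 2 ∣ Nat.card (G ⧸ R) := by
    intro h2
    haveI : Fact (Nat.Prime 2) := ⟨Nat.prime_two⟩
    obtain ⟨z, hz⟩ := exists_prime_orderOf_dvd_card' (G := G ⧸ R) 2 h2
    have hzp : ¬ p ∣ orderOf z := fun hd => hp2 (by rw [← hL z hd, hz])
    have hz1 : z ≠ 1 := fun e => by rw [e, orderOf_one] at hz; omega
    have hinv : ∀ w : Z, φ z w = w⁻¹ := by
      intro w
      refine eq_inv_of_mul_eq_one_left (hfpf z hz1 hzp _ ?_)
      rw [map_mul, ← MulAut.mul_apply, ← map_mul, ← pow_two, ← hz, pow_orderOf_eq_one, map_one,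
        MulAut.one_apply, mul_comm]
    have hc : Commute x z := by
      refine (MonoidHom.ker_eq_bot_iff φ).1 hinj ?_
      rw [map_mul, map_mul]
      exact MulEquiv.ext fun w => by rw [MulAut.mul_apply, MulAut.mul_apply, hinv, hinv, map_inv]
    have h1 := orderOf_dvd_of_pow_eq_one (hL.pow_eq_one hp hx hc)
    rw [hz, Nat.prime_dvd_prime_iff_eq Nat.prime_two hp] at h1
    exact hp2 h1.symm
  refine not_dvd_card hp hL φ hfpf hnorm hV ?_ hcore hpi
  intro r hrF hrp Q hQ
  haveI := hrF
  by_cases hr2 : r = 2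
  · subst hr2
    obtain ⟨k, hk⟩ := IsPGroup.iff_card.1 hQ
    rcases Nat.eq_zero_or_pos k with rfl | hk0
    · rw [pow_zero] at hk
      haveI := (Nat.card_eq_one_iff_unique.1 hk).1
      exact isCyclic_of_subsingleton
    · exact absurd ((dvd_pow_self 2 hk0.ne').trans (hk ▸ Subgroup.card_subgroup_dvd_card Q)) hodd
  obtain ⟨T, hT⟩ := hQ.exists_le_sylow
  obtain ⟨S, rfl⟩ := Sylow.mapSurjective_surjective (QuotientGroup.mk'_surjective R) r T
  haveI := hcyc r hrp hr2 (S : Subgroup G) S.isPGroup'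
  haveI : IsCyclic ((S : Subgroup G).map (QuotientGroup.mk' R)) :=
    isCyclic_of_surjective _ ((QuotientGroup.mk' R).subgroupMap_surjective (S : Subgroup G))
  rw [Sylow.coe_mapSurjective] at hT
  exact isCyclic_of_injective (Subgroup.inclusion hT) (Subgroup.inclusion_injective hT)

end CfsgLib.PSLTwoSpectrum
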