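import Cfsg.Agent.PSLTwoSpectrum.Isolated
import Cfsg.Agent.Small.Counting
import Cfsg.Agent.Small.BaerSuzuki
import Cfsg.Agent.Coprime.Generation

/-!
# A group with the order and the element orders of `PSL(2, q)`

Its Sylow `p`-subgroups are trivial intersection subgroups, `q + 1` in number, permuted doubly
transitively with normalisers of order `q (q - 1) / d`.
-/

set_option autoImplicit false
set_option linter.style.haveILetI false

namespace CfsgLib.PSLTwoSpectrum

/-- The order and element orders of `PSL(2, p ^ f)`. -/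
structure Data (G : Type*) [Group G] (p f : ℕ) : Prop where
  prime : p.Prime
  f_pos : 1 ≤ f
  q_gt : 3 < p ^ f
  card : Nat.gcd 2 (p ^ f - 1) * Nat.card G = p ^ f * ((p ^ f - 1) * (p ^ f + 1))
  orders : ∀ g : G, orderOf g ∣ p ∨ orderOf g ∣ (p ^ f + 1) / Nat.gcd 2 (p ^ f - 1) ∨
    orderOf g ∣ (p ^ f - 1) / Nat.gcd 2 (p ^ f - 1)
  plus : ∃ g : G, orderOf g = (p ^ f + 1) / Nat.gcd 2 (p ^ f - 1)
  minus : ∃ g : G, orderOf g = (p ^ f - 1) / Nat.gcd 2 (p ^ f - 1)

variable {G : Type*} [Group G] [Finite G] {p f : ℕ}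

namespace Data

omit [Finite G] in
lemma gcd_cases (h : Data G p f) :
    (p = 2 ∧ Nat.gcd 2 (p ^ f - 1) = 1) ∨ (p ≠ 2 ∧ Nat.gcd 2 (p ^ f - 1) = 2 ∧ p ^ f % 2 = 1) := by
  rcases h.prime.eq_two_or_odd with e | e
  · subst e
    refine Or.inl ⟨rfl, Nat.prime_two.coprime_iff_not_dvd.2 ?_⟩
    have h2 : 2 ∣ 2 ^ f := dvd_pow_self 2 (by have := h.f_pos; omega)
    have := h.q_gt
    omega
  · have hodd : p ^ f % 2 = 1 := by rw [Nat.pow_mod, e, one_pow, Nat.one_mod]
    exact Or.inr ⟨fun e' => by omega, Nat.gcd_eq_left (by omega), hodd⟩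

omit [Finite G] in
lemma gcd_dvd (h : Data G p f) :
    Nat.gcd 2 (p ^ f - 1) ∣ p ^ f + 1 ∧ Nat.gcd 2 (p ^ f - 1) ∣ p ^ f - 1 := by
  rcases h.gcd_cases with ⟨-, e⟩ | ⟨-, e, ho⟩ <;> rw [e]
  · exact ⟨one_dvd _, one_dvd _⟩
  · omega

omit [Finite G] in
lemma not_dvd_succ (h : Data G p f) : ¬ p ∣ p ^ f + 1 ∧ ¬ p ∣ p ^ f - 1 := by
  have hd : p ∣ p ^ f := dvd_pow_self p (by have := h.f_pos; omega)
  have := h.q_gt
  have h2 := h.prime.two_le
  refine ⟨fun h' => ?_, fun h' => ?_⟩
  · have := Nat.le_of_dvd one_pos ((Nat.dvd_add_right hd).1 h')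
    omega
  · have h3 := Nat.dvd_sub hd h'
    rw [Nat.sub_sub_self (by omega : 1 ≤ p ^ f)] at h3
    have := Nat.le_of_dvd one_pos h3
    omega

omit [Finite G] in
lemma isolated (h : Data G p f) : Isolated p G := by
  intro g hg
  rcases h.orders g with e | e | e
  · exact Nat.dvd_antisymm e hg
  · exact absurd ((hg.trans e).trans (Nat.div_dvd_of_dvd h.gcd_dvd.1)) h.not_dvd_succ.1
  · exact absurd ((hg.trans e).trans (Nat.div_dvd_of_dvd h.gcd_dvd.2)) h.not_dvd_succ.2

lemma card_sylow (h : Data G p f) [Fact p.Prime] (P : Sylow p G) :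
    Nat.card (P : Subgroup G) = p ^ f := by
  obtain ⟨n, hn⟩ := IsPGroup.iff_card.1 P.isPGroup'
  have hnd : ¬ p ∣ (P : Subgroup G).index := P.not_dvd_index
  have hmul := (P : Subgroup G).card_mul_index
  have hd : Nat.Coprime p (Nat.gcd 2 (p ^ f - 1)) := by
    rcases h.gcd_cases with ⟨-, e⟩ | ⟨hp2, e, -⟩ <;> rw [e]
    · exact Nat.coprime_one_right p
    · exact (Nat.coprime_primes h.prime Nat.prime_two).2 hp2
  have hcop : Nat.Coprime p ((p ^ f - 1) * (p ^ f + 1)) :=
    Nat.Coprime.mul_right (h.prime.coprime_iff_not_dvd.2 h.not_dvd_succ.2)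
      (h.prime.coprime_iff_not_dvd.2 h.not_dvd_succ.1)
  have hcard := h.card
  rw [← hmul, hn] at hcard
  rw [hn]
  refine Nat.dvd_antisymm ?_ ?_
  · refine (Nat.Coprime.pow_left n hcop).dvd_of_dvd_mul_right ?_
    rw [← hcard]
    exact (dvd_mul_right _ _).mul_left _
  · refine (Nat.Coprime.pow_left f (hd.mul_right (h.prime.coprime_iff_not_dvd.2 hnd))).dvd_of_dvd_mul_right ?_
    rw [show p ^ n * (Nat.gcd 2 (p ^ f - 1) * (P : Subgroup G).index) =
      Nat.gcd 2 (p ^ f - 1) * (p ^ n * (P : Subgroup G).index) by ring, hcard]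
    exact dvd_mul_right _ _

/-- Subgroups of odd prime power order, for primes other than `p`, are cyclic. -/
lemma isCyclic_of_ne (h : Data G p f) (r : ℕ) [Fact r.Prime] (hrp : r ≠ p) (hr2 : r ≠ 2)
    (R : Subgroup G) (hR : IsPGroup r R) : IsCyclic R := by
  have hr : r.Prime := Fact.out
  set v := (Nat.card G).factorization r with hv
  have hrd : Nat.Coprime r (Nat.gcd 2 (p ^ f - 1)) := by
    rcases h.gcd_cases with ⟨-, e⟩ | ⟨-, e, -⟩ <;> rw [e]
    · exact Nat.coprime_one_right r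
    · exact (Nat.coprime_primes hr Nat.prime_two).2 hr2
  have hdvd : r ^ v ∣ (p ^ f - 1) * (p ^ f + 1) := by
    refine (((Nat.coprime_primes hr h.prime).2 hrp).pow v f).dvd_of_dvd_mul_left ?_
    rw [← h.card]
    exact (Nat.ordProj_dvd _ r).mul_left _
  obtain ⟨y, hy⟩ : ∃ y : G, r ^ v ∣ orderOf y := by
    have key : ∀ {a : ℕ}, r ^ v ∣ a → Nat.gcd 2 (p ^ f - 1) ∣ a →
        r ^ v ∣ a / Nat.gcd 2 (p ^ f - 1) := fun {a} ha hda => by
      refine (hrd.pow_left v).dvd_of_dvd_mul_left ?_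
      rwa [Nat.mul_div_cancel' hda]
    by_cases hm : r ∣ p ^ f - 1
    · have hpl : ¬ r ∣ p ^ f + 1 := fun hpl => by
        have h2 := Nat.dvd_sub hpl hm
        have := h.q_gt
        rw [show p ^ f + 1 - (p ^ f - 1) = 2 by omega] at h2
        exact hr2 ((Nat.prime_dvd_prime_iff_eq hr Nat.prime_two).1 h2)
      obtain ⟨y, hy⟩ := h.minus
      exact ⟨y, hy ▸ key (((hr.coprime_iff_not_dvd.2 hpl).pow_left v).dvd_of_dvd_mul_right hdvd)
        h.gcd_dvd.2⟩
    · obtain ⟨y, hy⟩ := h.plus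
      exact ⟨y, hy ▸ key (((hr.coprime_iff_not_dvd.2 hm).pow_left v).dvd_of_dvd_mul_left hdvd)
        h.gcd_dvd.1⟩
  set z := y ^ (orderOf y / r ^ v)
  have hz : Nat.card (Subgroup.zpowers z) = r ^ v := by
    rw [Nat.card_zpowers, orderOf_pow_orderOf_div (orderOf_pos y).ne' hy]
  let S : Sylow r G := Sylow.ofCard (Subgroup.zpowers z) hz
  obtain ⟨T, hT⟩ := hR.exists_le_sylow
  haveI : IsCyclic (S : Subgroup G) := by
    show IsCyclic (Subgroup.zpowers z)
    infer_instance
  haveI : IsCyclic (T : Subgroup G) :=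
    isCyclic_of_surjective _ (Sylow.equiv S T).surjective
  exact isCyclic_of_injective (Subgroup.inclusion hT) (Subgroup.inclusion_injective hT)

/-- The Sylow `p`-subgroups intersect trivially. -/
theorem sylow_inf_eq_bot (h : Data G p f) [Fact p.Prime] {P Q : Sylow p G} (hne : P ≠ Q) :
    (P : Subgroup G) ⊓ Q = ⊥ := by
  have hiso := h.isolated
  by_contra hD
  by_cases hp2 : p = 2
  · subst hp2
    obtain ⟨x, hx, hx1⟩ := (Subgroup.bot_or_exists_ne_one _).resolve_left hD
    have hxo := hiso.orderOf_eq P.isPGroup' hx.1 hx1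
    have hC : IsPGroup 2 (Subgroup.centralizer ({x} : Set G)) := fun y => ⟨1, by
      rw [pow_one]
      exact Subtype.ext (hiso.pow_eq_one Nat.prime_two hxo
        (Subgroup.mem_centralizer_singleton_iff.1 y.2).symm)⟩
    have hle : ∀ T : Sylow 2 G, x ∈ (T : Subgroup G) →
        (T : Subgroup G) = Subgroup.centralizer ({x} : Set G) := by
      intro T hxT
      refine (T.3 hC fun y hy => Subgroup.mem_centralizer_singleton_iff.2 ?_).symm
      have hexp : ∀ z ∈ (T : Subgroup G), z * z = 1 := fun z hz => by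
        by_cases hz1 : z = 1
        · rw [hz1, one_mul]
        · rw [← pow_two, ← hiso.orderOf_eq T.isPGroup' hz hz1, pow_orderOf_eq_one]
      have hinv : ∀ z ∈ (T : Subgroup G), z⁻¹ = z := fun z hz => inv_eq_of_mul_eq_one_right (hexp z hz)
      rw [← hinv _ (mul_mem hy hxT), mul_inv_rev, hinv x hxT, hinv y hy]
    exact hne (Sylow.ext ((hle P hx.1).trans (hle Q hx.2).symm))
  obtain ⟨⟨P, Q⟩, hmax⟩ :=
    (Set.toFinite {PQ : Sylow p G × Sylow p G | PQ.1 ≠ PQ.2 ∧
      (PQ.1 : Subgroup G) ⊓ PQ.2 ≠ ⊥}).exists_maximalFor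
      (fun PQ => ((PQ.1 : Subgroup G) ⊓ PQ.2)) _ ⟨(P, Q), hne, hD⟩
  obtain ⟨hPQ, hD⟩ : P ≠ Q ∧ (P : Subgroup G) ⊓ Q ≠ ⊥ := hmax.prop
  set D := (P : Subgroup G) ⊓ Q with hDdef
  set N := Subgroup.normalizer (D : Set G) with hN
  obtain ⟨R⟩ : Nonempty (Sylow p N) := inferInstance
  haveI hsub : Subsingleton (Sylow p N) := by
    refine subsingleton_sylow hp2 (hiso.subgroup N) (fun r hrF hrp hr2 A hA => ?_)
      (D := D.subgroupOf N) ((Subgroup.normal_subgroupOf_iff_le_normalizer Subgroup.le_normalizer).2 le_rfl)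
      ((P.isPGroup'.to_le inf_le_left).comap_subtype) ?_
    · haveI := hrF
      haveI := h.isCyclic_of_ne r hrp hr2 (A.map N.subtype) (hA.map _)
      exact isCyclic_of_surjective _ (A.equivMapOfInjective _ N.subtype_injective).symm.surjective
    · intro e
      rw [Subgroup.subgroupOf_eq_bot, disjoint_iff, inf_eq_left.2 Subgroup.le_normalizer] at e
      exact hD e
  obtain ⟨T, hT⟩ := (R.isPGroup'.map N.subtype).exists_le_sylow
  have key : ∀ S : Sylow p G, D < S → S = T := by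
    intro S hS
    by_contra hST
    have hlt := CfsgLib.Small.lt_inf_normalizer_of_pGroup S.isPGroup' hS
    have hle : (S : Subgroup G) ⊓ N ≤ (S : Subgroup G) ⊓ T := by
      intro x hx
      refine ⟨hx.1, hT ⟨⟨x, hx.2⟩, ?_, rfl⟩⟩
      obtain ⟨R', hR'⟩ := IsPGroup.exists_le_sylow (G := N)
        (P := ((S : Subgroup G) ⊓ N).subgroupOf N) ((S.isPGroup'.to_le inf_le_left).comap_subtype)
      rw [Subsingleton.elim R R']
      exact hR' hx
    have hlt' : D < (S : Subgroup G) ⊓ T := hlt.trans_le hle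
    have hne' : (S : Subgroup G) ⊓ T ≠ ⊥ := fun e => not_le_of_gt hlt' (e ▸ bot_le)
    exact not_le_of_gt hlt'
      (hmax.le_of_le (j := (S, T)) (show S ≠ T ∧ (S : Subgroup G) ⊓ T ≠ ⊥ from ⟨hST, hne'⟩) hlt'.le)
  have hPlt : D < P := lt_of_le_of_ne inf_le_left fun e =>
    hPQ (Sylow.ext (P.3 Q.isPGroup' (e ▸ inf_le_right)).symm)
  have hQlt : D < Q := lt_of_le_of_ne inf_le_right fun e =>
    hPQ (Sylow.ext (Q.3 P.isPGroup' (e ▸ inf_le_left)))
  exact hPQ ((key P hPlt).trans (key Q hQlt).symm)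

/-- Elements of a Sylow `p`-subgroup normalising another are trivial. -/
lemma eq_one_of_smul (h : Data G p f) [Fact p.Prime] {P R : Sylow p G} (hne : P ≠ R) {u : G}
    (hu : u ∈ (P : Subgroup G)) (hfix : u • R = R) : u = 1 := by
  have hmem : u ∈ (P : Subgroup G) ⊓ Subgroup.normalizer ((R : Subgroup G) : Set G) :=
    ⟨hu, Sylow.smul_eq_iff_mem_normalizer.1 hfix⟩
  have hmem' : u ∈ (P : Subgroup G) ⊓ (R : Subgroup G) := by
    rwa [← P.isPGroup'.inf_normalizer_sylow R]
  rw [h.sylow_inf_eq_bot hne] at hmem'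
  exact Subgroup.mem_bot.1 hmem'

lemma card_sylow_modEq (h : Data G p f) [Fact p.Prime] (P : Sylow p G) :
    Nat.card (Sylow p G) ≡ 1 [MOD p ^ f] := by
  classical
  let Y : SubMulAction (P : Subgroup G) (Sylow p G) :=
    { carrier := {R | R ≠ P}
      smul_mem' := fun g R hR hgR => hR (by
        have hgP : (g : G)⁻¹ • P = P :=
          Sylow.smul_eq_iff_mem_normalizer.2 (Subgroup.le_normalizer (inv_mem g.2))
        have hgR' : (g : G) • R = P := hgR
        exact (eq_inv_smul_iff.2 hgR').trans hgP) }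
  have hfree : ∀ R : Y, MulAction.stabilizer (P : Subgroup G) R = ⊥ := fun R =>
    (Subgroup.eq_bot_iff_forall _).2 fun g hg => Subtype.ext
      (h.eq_one_of_smul (Ne.symm R.2) g.2 (congrArg Subtype.val (MulAction.mem_stabilizer_iff.1 hg)))
  have hY := Nat.card_congr (MulAction.selfEquivOrbitsQuotientProd hfree)
  rw [Nat.card_prod, h.card_sylow P] at hY
  have hsplit : Nat.card (Sylow p G) = Nat.card Y + 1 := by
    rw [← Finite.card_option]
    exact (Nat.card_congr (Equiv.optionSubtypeNe P)).symm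
  rw [hsplit, hY, Nat.ModEq, Nat.add_mod, Nat.mul_mod_left, zero_add, Nat.mod_mod]

/-- `q + 1` Sylow subgroups; a complement in the normaliser has order `(q - 1) / d`. -/
theorem sylow_data (h : Data G p f) [Fact p.Prime] (P : Sylow p G) :
    Nat.card (Sylow p G) = p ^ f + 1 ∧ ∃ K : Subgroup G,
      K ≤ Subgroup.normalizer ((P : Subgroup G) : Set G) ∧ Disjoint K (P : Subgroup G) ∧
      Nat.gcd 2 (p ^ f - 1) * Nat.card K = p ^ f - 1 := by
  set N := Subgroup.normalizer ((P : Subgroup G) : Set G) with hN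
  have hcopN : Nat.Coprime (Nat.card ((P : Subgroup G).subgroupOf N))
      ((P : Subgroup G).subgroupOf N).index := by
    rw [Nat.card_congr (Subgroup.subgroupOfEquivOfLe (H := (P : Subgroup G)) (K := N)
      Subgroup.le_normalizer).toEquiv, h.card_sylow P]
    refine Nat.Coprime.pow_left f (h.prime.coprime_iff_not_dvd.2 fun hd => ?_)
    exact P.not_dvd_index (hd.trans (Subgroup.relIndex_dvd_index_of_le Subgroup.le_normalizer))
  obtain ⟨K₀, hK₀⟩ := Subgroup.exists_right_complement'_of_coprime hcopN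
  set K := K₀.map N.subtype with hK
  have hKc : Nat.card K = ((P : Subgroup G).subgroupOf N).index := by
    rw [hK, ← Nat.card_congr (K₀.equivMapOfInjective _ N.subtype_injective).toEquiv,
      hK₀.symm.index_eq_card]
  have hdisj : Disjoint K (P : Subgroup G) := by
    rw [disjoint_iff, Subgroup.eq_bot_iff_forall]
    rintro _ ⟨⟨k, hk, rfl⟩, hkP⟩
    have := Subgroup.mem_bot.1 (hK₀.disjoint.le_bot (Subgroup.mem_inf.2
      ⟨Subgroup.mem_subgroupOf.2 hkP, hk⟩))
    rw [this]; rfl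
  have hKN : K ≤ N := Subgroup.map_subtype_le _
  set n := Nat.card (Sylow p G)
  set w := Nat.card K with hw
  have hwcop : Nat.Coprime w p := by
    rw [hKc, Nat.coprime_comm, h.prime.coprime_iff_not_dvd]
    exact fun hd => P.not_dvd_index (hd.trans (Subgroup.relIndex_dvd_index_of_le Subgroup.le_normalizer))
  -- `n w` is the index of `P`
  have hnw : Nat.gcd 2 (p ^ f - 1) * (n * w) = (p ^ f - 1) * (p ^ f + 1) := by
    have h1 : n * (w * p ^ f) = Nat.card G := by
      rw [show n = N.index from P.card_eq_index_normalizer, hKc, ← h.card_sylow P,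
        ← Nat.card_congr (Subgroup.subgroupOfEquivOfLe (H := (P : Subgroup G)) (K := N)
          Subgroup.le_normalizer).toEquiv, Subgroup.index_mul_card, Subgroup.index_mul_card]
    have h2 := h.card
    rw [← h1] at h2
    refine Nat.eq_of_mul_eq_mul_left (pow_pos h.prime.pos f) ?_
    rw [← h2]; ring
  have hwle : w ≤ p ^ f - 1 := by
    classical
    obtain ⟨y, hy, hy1⟩ := (Subgroup.bot_or_exists_ne_one (P : Subgroup G)).resolve_left fun e => by
      have := h.card_sylow P
      rw [e, Subgroup.card_bot] at this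
      have := h.q_gt
      omega
    have hyo := h.isolated.orderOf_eq P.isPGroup' hy hy1
    let φ : K → {x : (P : Subgroup G) // x ≠ 1} := fun k =>
      ⟨⟨(k : G) * y * (k : G)⁻¹, (Subgroup.mem_normalizer_iff.1 (hKN k.2) y).1 hy⟩,
        fun e => hy1 (conj_eq_one_iff.1 (congrArg Subtype.val e))⟩
    have hφ : Function.Injective φ := by
      intro a b e
      have e' : (a : G) * y * (a : G)⁻¹ = (b : G) * y * (b : G)⁻¹ :=
        congrArg Subtype.val (congrArg Subtype.val e)
      have hc : Commute y ((b : G)⁻¹ * a) := by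
        refine (mul_inv_eq_iff_eq_mul.1 ?_).symm
        calc (b : G)⁻¹ * a * y * ((b : G)⁻¹ * a)⁻¹ = (b : G)⁻¹ * ((a : G) * y * (a : G)⁻¹) * b := by group
          _ = y := by rw [e']; group
      have h1 := h.isolated.pow_eq_one h.prime hyo hc
      have h2 : orderOf ((b : G)⁻¹ * a) ∣ w :=
        Subgroup.orderOf_dvd_natCard K (mul_mem (inv_mem b.2) a.2)
      have h3 : (b : G)⁻¹ * a = 1 := orderOf_eq_one_iff.1
        (Nat.eq_one_of_dvd_coprimes hwcop h2 (orderOf_dvd_of_pow_eq_one h1))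
      exact (Subtype.ext (inv_mul_eq_one.1 h3)).symm
    refine (Nat.card_le_card_of_injective φ hφ).trans (le_of_eq ?_)
    have h1 : Nat.card {x : (P : Subgroup G) // x ≠ 1} + 1 = Nat.card (P : Subgroup G) := by
      rw [← Finite.card_option]
      exact Nat.card_congr (Equiv.optionSubtypeNe 1)
    rw [h.card_sylow P] at h1
    omega
  have hdw : Nat.gcd 2 (p ^ f - 1) * w = p ^ f - 1 := by
    have hq := h.q_gt
    have h1 : (Nat.gcd 2 (p ^ f - 1) * w + 1) % p ^ f = 0 := by
      have hmod := ((h.card_sylow_modEq P).mul_left (Nat.gcd 2 (p ^ f - 1) * w)).add_right 1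
      rw [mul_one, show Nat.gcd 2 (p ^ f - 1) * w * n = (p ^ f - 1) * (p ^ f + 1) by rw [← hnw]; ring,
        show (p ^ f - 1) * (p ^ f + 1) + 1 = p ^ f * p ^ f by
          obtain ⟨m, hm⟩ : ∃ m, p ^ f = m + 1 := ⟨p ^ f - 1, by omega⟩
          rw [hm, Nat.add_sub_cancel]; ring] at hmod
      exact (hmod.symm.trans (Nat.modEq_zero_iff_dvd.2 (dvd_mul_right _ _)) :)
    obtain ⟨k, hk⟩ := Nat.dvd_of_mod_eq_zero h1
    rcases h.gcd_cases with ⟨-, e⟩ | ⟨-, e, ho⟩ <;> rw [e] at hk ⊢
    · have hk1 : k = 1 := by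
        rcases Nat.lt_trichotomy k 1 with hlt | heq | hgt
        · simp [Nat.lt_one_iff.1 hlt] at hk
        · exact heq
        · have := Nat.mul_le_mul_left (p ^ f) hgt
          omega
      subst hk1
      omega
    · have hk1 : k = 1 := by
        rcases Nat.lt_trichotomy k 2 with hlt | heq | hgt
        · interval_cases k
          · simp at hk
          · rfl
        · subst heq; omega
        · have := Nat.mul_le_mul_left (p ^ f) hgt
          omega
      subst hk1
      omega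
  refine ⟨?_, K, hKN, hdisj, hdw⟩
  have hpos : 0 < p ^ f - 1 := by have := h.q_gt; omega
  refine Nat.eq_of_mul_eq_mul_left hpos ?_
  rw [← hnw]
  calc (p ^ f - 1) * n = Nat.gcd 2 (p ^ f - 1) * w * n := by rw [hdw]
    _ = _ := by ring

end Data

end CfsgLib.PSLTwoSpectrum
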