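import Cfsg.Agent.PSLTwoSpectrum.Setup
import Cfsg.Prelude.Def_LieExceptional

/-!
# The Zassenhaus group on the Sylow `p`-subgroups

A group with the order and element orders of `PSL(2, q)` is a Zassenhaus group on its `q + 1`
Sylow `p`-subgroups.
-/

set_option autoImplicit false
set_option linter.style.haveILetI false

namespace CfsgLib.PSLTwoSpectrum

variable {G : Type*} [Group G] [Finite G] {p f : ℕ}

namespace Data

open MulAction

omit [Finite G] in
/-- An element of a Sylow subgroup fixes it. -/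
lemma smul_self [Fact p.Prime] {P : Sylow p G} {u : G} (hu : u ∈ (P : Subgroup G)) : u • P = P :=
  Sylow.smul_eq_iff_mem_normalizer.2 (Subgroup.le_normalizer hu)

/-- The Sylow subgroup acts regularly on the other Sylow subgroups. -/
theorem existsUnique_smul (h : Data G p f) [Fact p.Prime] {P R R' : Sylow p G} (hR : R ≠ P)
    (hR' : R' ≠ P) : ∃! u : (P : Subgroup G), (u : G) • R = R' := by
  classical
  haveI := Fintype.ofFinite (Sylow p G)
  haveI := Fintype.ofFinite (P : Subgroup G)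
  let φ : ↥(P : Subgroup G) → {S : Sylow p G // S ≠ P} := fun u =>
    ⟨(u : G) • R, fun e => hR (smul_left_cancel (u : G) (e.trans (smul_self u.2).symm))⟩
  have hinj : Function.Injective φ := by
    intro u v e
    have e' : (u : G) • R = (v : G) • R := congrArg Subtype.val e
    have h1 : ((v : G)⁻¹ * u) • R = R := by rw [mul_smul, e', inv_smul_smul]
    exact (Subtype.ext (inv_mul_eq_one.1
      (h.eq_one_of_smul (Ne.symm hR) (mul_mem (inv_mem v.2) u.2) h1))).symm
  have hbij : Function.Bijective φ := by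
    refine (Fintype.bijective_iff_injective_and_card _).2 ⟨hinj, ?_⟩
    rw [← Nat.card_eq_fintype_card, h.card_sylow P, Fintype.card_subtype_compl,
      Fintype.card_subtype_eq, ← Nat.card_eq_fintype_card, (h.sylow_data P).1, Nat.add_sub_cancel]
  obtain ⟨u, hu, huniq⟩ := hbij.existsUnique ⟨R', hR'⟩
  exact ⟨u, congrArg Subtype.val hu, fun v hv => huniq v (Subtype.ext hv)⟩

theorem exists_ne_sylow (h : Data G p f) [Fact p.Prime] (P : Sylow p G) :
    ∃ R : Sylow p G, R ≠ P := by
  by_contra hc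
  push Not at hc
  haveI : Subsingleton (Sylow p G) := ⟨fun a b => (hc a).trans (hc b).symm⟩
  have h1 := (h.sylow_data P).1
  rw [Nat.card_of_subsingleton P] at h1
  have := h.q_gt
  omega

theorem two_pretransitive (h : Data G p f) [Fact p.Prime] :
    IsMultiplyPretransitive G (Sylow p G) 2 := by
  rw [is_two_pretransitive_iff]
  intro a b c d hab hcd
  obtain ⟨g, hg⟩ := exists_smul_eq G a c
  obtain ⟨u, hu, -⟩ := h.existsUnique_smul (P := c) (R := g • b) (R' := d)
    (fun e => hab (smul_left_cancel g (hg.trans e.symm))) (Ne.symm hcd)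
  exact ⟨(u : G) * g, by rw [mul_smul, hg, smul_self u.2], by rw [mul_smul, hu]⟩

/-- An element commuting with a non-trivial `p`-element and fixing `P` lies in `P`. -/
lemma mem_of_commute (h : Data G p f) [Fact p.Prime] {P : Sylow p G} {u x : G}
    (hu : u ∈ (P : Subgroup G)) (hu1 : u ≠ 1) (hc : Commute u x) (hx : x • P = P) :
    x ∈ (P : Subgroup G) := by
  have hxp := h.isolated.pow_eq_one h.prime (h.isolated.orderOf_eq P.isPGroup' hu hu1) hc
  have hZ : IsPGroup p (Subgroup.zpowers x) := by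
    rintro ⟨y, k, rfl⟩
    exact ⟨1, Subtype.ext (by
      rw [SubgroupClass.coe_pow, pow_one]
      show (x ^ k) ^ p = 1
      rw [← zpow_natCast, zpow_comm, zpow_natCast, hxp, one_zpow])⟩
  have hmem : x ∈ Subgroup.zpowers x ⊓ Subgroup.normalizer ((P : Subgroup G) : Set G) :=
    ⟨Subgroup.mem_zpowers x, Sylow.smul_eq_iff_mem_normalizer.1 hx⟩
  exact ((hZ.inf_normalizer_sylow P).le hmem).2

theorem faithful (h : Data G p f) [Fact p.Prime] : FaithfulSMul G (Sylow p G) := by
  refine ⟨fun {a b} hab => ?_⟩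
  obtain ⟨P⟩ : Nonempty (Sylow p G) := inferInstance
  set x := b⁻¹ * a with hxdef
  have hx : ∀ S : Sylow p G, x • S = S := fun S => by rw [hxdef, mul_smul, hab, inv_smul_smul]
  suffices hx1 : x = 1 by exact (inv_mul_eq_one.1 hx1).symm
  obtain ⟨u, hu, hu1⟩ := (Subgroup.bot_or_exists_ne_one (P : Subgroup G)).resolve_left fun e => by
    have := h.card_sylow P
    rw [e, Subgroup.card_bot] at this
    have := h.q_gt
    omega
  obtain ⟨R, hR⟩ := h.exists_ne_sylow P
  have hmem : x * u * x⁻¹ * u⁻¹ ∈ (P : Subgroup G) := mul_mem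
    ((Subgroup.mem_normalizer_iff.1 (Sylow.smul_eq_iff_mem_normalizer.1 (hx P)) u).1 hu) (inv_mem hu)
  have hcomm : x * u * x⁻¹ * u⁻¹ = 1 := h.eq_one_of_smul (Ne.symm hR) hmem (by
    have hx' : ∀ S : Sylow p G, x⁻¹ • S = S := fun S => inv_smul_eq_iff.2 (hx S).symm
    rw [mul_smul, mul_smul, mul_smul, hx', smul_inv_smul, hx])
  exact h.eq_one_of_smul (Ne.symm hR) (h.mem_of_commute hu hu1
    (mul_inv_eq_iff_eq_mul.1 (mul_inv_eq_one.1 hcomm)).symm (hx P)) (hx R)

theorem fix_three (h : Data G p f) [Fact p.Prime] (g : G) (a b c : Sylow p G) (hab : a ≠ b)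
    (hbc : b ≠ c) (hac : a ≠ c) (ha : g • a = a) (hb : g • b = b) (hc : g • c = c) : g = 1 := by
  obtain ⟨⟨u, hu⟩, hub, -⟩ := h.existsUnique_smul (P := a) (R := b) (R' := c) (Ne.symm hab) (Ne.symm hac)
  replace hub : u • b = c := hub
  have hu1 : u ≠ 1 := fun e => hbc (by rwa [e, one_smul] at hub)
  have hmem : u⁻¹ * (g * u * g⁻¹) ∈ (a : Subgroup G) := mul_mem (inv_mem hu)
    ((Subgroup.mem_normalizer_iff.1 (Sylow.smul_eq_iff_mem_normalizer.1 ha) u).1 hu)
  have hcomm : u⁻¹ * (g * u * g⁻¹) = 1 := h.eq_one_of_smul hab hmem (by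
    rw [mul_smul, mul_smul, mul_smul, inv_smul_eq_iff.2 hb.symm, hub, hc, ← hub, inv_smul_smul])
  exact h.eq_one_of_smul hab (h.mem_of_commute hu hu1
    (mul_inv_eq_iff_eq_mul.1 (inv_mul_eq_one.1 hcomm).symm).symm ha) hb

/-- A two-point stabiliser has order at least `(q - 1) / d`. -/
theorem le_card_stabilizer (h : Data G p f) [Fact p.Prime] {a b : Sylow p G} (hab : a ≠ b) :
    p ^ f - 1 ≤ 2 * Nat.card ↥(stabilizer G a ⊓ stabilizer G b) := by
  obtain ⟨-, K, hKN, hdisj, hK⟩ := h.sylow_data a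
  have hKfix : ∀ k : K, (k : G) • a = a := fun k =>
    Sylow.smul_eq_iff_mem_normalizer.2 (hKN k.2)
  choose u hu using fun k : K => (h.existsUnique_smul (P := a) (R := b) (R' := (k : G) • b)
    (Ne.symm hab) (fun e => hab (smul_left_cancel (k : G) ((hKfix k).trans e.symm)))).exists
  let φ : K → ↥(stabilizer G a ⊓ stabilizer G b) := fun k => ⟨(u k : G)⁻¹ * k,
    mem_stabilizer_iff.2 (by rw [mul_smul, hKfix, inv_smul_eq_iff, smul_self (u k).2]),
    mem_stabilizer_iff.2 (by rw [mul_smul, inv_smul_eq_iff, hu])⟩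
  have hφ : Function.Injective φ := by
    intro k j e
    have e' : (u k : G)⁻¹ * k = (u j : G)⁻¹ * j := congrArg Subtype.val e
    have h1 : (k : G) * (j : G)⁻¹ ∈ (a : Subgroup G) := by
      have h2 : (k : G) * (j : G)⁻¹ = (u k : G) * (u j : G)⁻¹ := by
        calc (k : G) * (j : G)⁻¹ = (u k : G) * ((u k : G)⁻¹ * k) * (j : G)⁻¹ := by group
          _ = _ := by rw [e']; group
      rw [h2]
      exact mul_mem (u k).2 (inv_mem (u j).2)
    exact Subtype.ext (mul_inv_eq_one.1 (Subgroup.mem_bot.1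
      (hdisj.le_bot (Subgroup.mem_inf.2 ⟨mul_mem k.2 (inv_mem j.2), h1⟩))))
  have h1 := Nat.card_le_card_of_injective φ hφ
  rw [← hK]
  exact Nat.mul_le_mul (Nat.le_of_dvd two_pos (Nat.gcd_dvd_left _ _)) h1

/-- No normal subgroup acts regularly. -/
theorem exists_stabilizer_ne_bot (h : Data G p f) [Fact p.Prime] (N : Subgroup G) (hN : N.Normal)
    (hNt : IsPretransitive N (Sylow p G)) : ∃ a : Sylow p G, stabilizer N a ≠ ⊥ := by
  classical
  by_contra! hc
  obtain ⟨P⟩ : Nonempty (Sylow p G) := inferInstance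
  have hNc : Nat.card N = p ^ f + 1 := by
    rw [← (h.sylow_data P).1, ← MulAction.index_stabilizer_of_transitive N P, hc P,
      Subgroup.index_bot]
  have hpN : ∀ n ∈ N, n ^ p = 1 → n = 1 := fun n hn hnp => orderOf_eq_one_iff.1
    (Nat.eq_one_of_dvd_coprimes (h.prime.coprime_iff_not_dvd.2 h.not_dvd_succ.1)
      (orderOf_dvd_of_pow_eq_one hnp) (hNc ▸ N.orderOf_dvd_natCard hn))
  -- conjugation by `P` is transitive on the non-trivial elements
  have horb : ∀ n ∈ N, n ≠ 1 → ∀ m ∈ N, m ≠ 1 → ∃ u ∈ (P : Subgroup G), u * n * u⁻¹ = m := by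
    intro n hn hn1 m hm hm1
    let φ : ↥(P : Subgroup G) → {x : N // x ≠ 1} := fun u =>
      ⟨⟨(u : G) * n * (u : G)⁻¹, hN.conj_mem n hn u⟩,
        fun e => hn1 (conj_eq_one_iff.1 (congrArg Subtype.val e))⟩
    have hφ : Function.Injective φ := by
      intro u v e
      have e' : (u : G) * n * (u : G)⁻¹ = (v : G) * n * (v : G)⁻¹ :=
        congrArg Subtype.val (congrArg Subtype.val e)
      have hcm : Commute ((v : G)⁻¹ * u) n := by
        refine mul_inv_eq_iff_eq_mul.1 ?_
        calc (v : G)⁻¹ * u * n * ((v : G)⁻¹ * u)⁻¹ = (v : G)⁻¹ * ((u : G) * n * (u : G)⁻¹) * v := by group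
          _ = n := by rw [e']; group
      by_contra hne
      exact hn1 (hpN n hn (h.isolated.pow_eq_one h.prime (h.isolated.orderOf_eq P.isPGroup'
        (mul_mem (inv_mem v.2) u.2) fun e0 => hne (Subtype.ext (inv_mul_eq_one.1 e0)).symm) hcm))
    haveI := Fintype.ofFinite (P : Subgroup G)
    haveI := Fintype.ofFinite N
    have hbij : Function.Bijective φ := by
      refine (Fintype.bijective_iff_injective_and_card _).2 ⟨hφ, ?_⟩
      rw [← Nat.card_eq_fintype_card, h.card_sylow P, Fintype.card_subtype_compl,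
        Fintype.card_subtype_eq, ← Nat.card_eq_fintype_card, hNc, Nat.add_sub_cancel]
    obtain ⟨u, hu⟩ := hbij.2 ⟨⟨m, hm⟩, fun e => hm1 (congrArg Subtype.val e)⟩
    exact ⟨u, u.2, congrArg Subtype.val (congrArg Subtype.val hu)⟩
  -- the exponent is a prime
  have hq := h.q_gt
  obtain ⟨r, hr, hrN⟩ := Nat.exists_prime_and_dvd (show Nat.card N ≠ 1 by omega)
  haveI := Fact.mk hr
  obtain ⟨n₀, hn₀⟩ := exists_prime_orderOf_dvd_card' r hrN
  have hexp : ∀ n ∈ N, n ≠ 1 → orderOf n = r := by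
    intro n hn hn1
    obtain ⟨u, -, hu⟩ := horb (n₀ : G) n₀.2 (fun e => hr.ne_one (by
      rw [← hn₀, orderOf_eq_one_iff]; exact Subtype.ext e)) n hn hn1
    rw [← hu, ← MulAut.conj_apply, MulEquiv.orderOf_eq, Subgroup.orderOf_coe, hn₀]
  have hindex : Nat.gcd 2 (p ^ f - 1) * N.index = p ^ f * (p ^ f - 1) := by
    refine Nat.eq_of_mul_eq_mul_left (show 0 < p ^ f + 1 by omega) ?_
    have h1 := h.card
    rw [← N.card_mul_index, hNc] at h1
    linarith
  -- an element of order `(q + 1) / d` lies in `N`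
  obtain ⟨g, hg⟩ := h.plus
  have hgN : g ∈ N := by
    rw [← QuotientGroup.eq_one_iff, ← orderOf_eq_one_iff]
    have hd1 : orderOf (g : G ⧸ N) ∣ orderOf g := orderOf_map_dvd (QuotientGroup.mk' N) g
    have hd2 : orderOf (g : G ⧸ N) ∣ N.index := _root_.orderOf_dvd_natCard _
    refine Nat.eq_one_of_dvd_coprimes ?_ hd1 hd2
    rw [hg]
    rcases h.gcd_cases with ⟨-, e⟩ | ⟨-, e, ho⟩
    · rw [e, one_mul] at hindex
      rw [e, Nat.div_one, hindex]
      refine Nat.Coprime.mul_right (Nat.coprime_self_add_left.2 (Nat.coprime_one_left _)) ?_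
      refine Nat.coprime_of_dvd fun s hs h1 h2 => ?_
      have h3 := Nat.dvd_sub h1 h2
      rw [show p ^ f + 1 - (p ^ f - 1) = 2 by omega, Nat.prime_dvd_prime_iff_eq hs Nat.prime_two] at h3
      have h4 : ¬ 2 ∣ p ^ f - 1 := fun hd => by rw [Nat.gcd_eq_left hd] at e; omega
      exact h4 (h3 ▸ h2)
    · -- `q + 1` is a power of two
      rw [e] at hindex ⊢
      have hr2 : r = 2 := by
        obtain ⟨t, ht⟩ := exists_prime_orderOf_dvd_card' (G := N) 2 (by omega)
        rw [← hexp (t : G) t.2 (fun e' => by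
          rw [← Subgroup.orderOf_coe, e', orderOf_one] at ht; omega), Subgroup.orderOf_coe, ht]
      obtain ⟨m, hm⟩ := IsPGroup.iff_card.1 (show IsPGroup 2 N from fun x => ⟨1, by
        rw [pow_one]
        by_cases hx : x = 1
        · rw [hx, one_pow]
        · refine Subtype.ext ?_
          rw [SubgroupClass.coe_pow, ← hr2, ← hexp (x : G) x.2 fun e' => hx (Subtype.ext e'),
            pow_orderOf_eq_one]
          rfl⟩)
      rw [hNc] at hm
      have hm3 : 3 ≤ m := by
        by_contra hlt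
        have : 2 ^ m ≤ 2 ^ 2 := Nat.pow_le_pow_right two_pos (by omega)
        omega
      obtain ⟨k, rfl⟩ : ∃ k, m = k + 2 := ⟨m - 2, by omega⟩
      refine Nat.Coprime.coprime_dvd_left (Nat.div_dvd_of_dvd (by omega)) ?_
      rw [hm]
      refine Nat.Coprime.pow_left _ (Nat.prime_two.coprime_iff_not_dvd.2 fun h2 => ?_)
      have h4 : 2 * 2 ∣ p ^ f * (p ^ f - 1) := hindex ▸ Nat.mul_dvd_mul_left 2 h2
      have h5 : 2 ^ (k + 2) = 4 * 2 ^ k := by ring
      have h6 : 2 * 2 ∣ p ^ f - 1 :=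
        (Nat.Coprime.dvd_of_dvd_mul_left (Nat.Coprime.mul_left
          (Nat.prime_two.coprime_iff_not_dvd.2 (by omega))
          (Nat.prime_two.coprime_iff_not_dvd.2 (by omega))) h4)
      omega
  have hg1 : g ≠ 1 := fun e => by
    rw [e, orderOf_one] at hg
    rcases h.gcd_cases with ⟨-, e'⟩ | ⟨-, e', -⟩ <;> rw [e'] at hg <;> omega
  have hgr := hexp g hgN hg1
  rw [hg] at hgr
  rcases h.gcd_cases with ⟨hp2, e⟩ | ⟨-, e, ho⟩ <;> rw [e] at hgr
  · -- even case: `N` is cyclic of prime order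
    subst hp2
    rw [Nat.div_one] at hgr
    have hgo : (orderOf g : ℤ) = r := by rw [hg, e, Nat.div_one, hgr]
    have hle : ∀ u ∈ (P : Subgroup G), u * g * u⁻¹ = g ∨ u * g * u⁻¹ = g⁻¹ := by
      intro u hu
      obtain ⟨a, ha⟩ : ∃ a : ℤ, g ^ a = u * g * u⁻¹ := by
        refine Subgroup.mem_zpowers_iff.1 ?_
        have hz : Subgroup.zpowers g = N := by
          refine Subgroup.eq_of_le_of_card_ge (Subgroup.zpowers_le.2 hgN) ?_
          rw [Nat.card_zpowers, hNc, hg, e, Nat.div_one]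
        rw [hz]
        exact hN.conj_mem g hgN u
      have huu : u * u = 1 := by
        by_cases hu1 : u = 1
        · rw [hu1, one_mul]
        · rw [← pow_two, ← h.isolated.orderOf_eq P.isPGroup' hu hu1, pow_orderOf_eq_one]
      have h2 : g ^ (a * a - 1) = 1 := by
        have h3 : u * (g ^ a) * u⁻¹ = (g ^ a) ^ a := by rw [← conj_zpow, ha]
        have h4 : u * (g ^ a) * u⁻¹ = g := by
          rw [ha]
          calc u * (u * g * u⁻¹) * u⁻¹ = u * u * g * (u * u)⁻¹ := by group
            _ = g := by rw [huu]; group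
        rw [zpow_sub_one, zpow_mul, ← h3, h4, mul_inv_cancel]
      have h3 : (r : ℤ) ∣ (a - 1) * (a + 1) := by
        have := orderOf_dvd_iff_zpow_eq_one.2 h2
        rw [hgo] at this
        rwa [show (a - 1) * (a + 1) = a * a - 1 by ring]
      rcases Int.Prime.dvd_mul' hr h3 with h4 | h4
      · left
        rw [← ha]
        rw [← hgo, orderOf_dvd_iff_zpow_eq_one, zpow_sub_one, mul_inv_eq_one] at h4
        exact h4
      · right
        rw [← ha]
        rw [← hgo, orderOf_dvd_iff_zpow_eq_one, zpow_add_one] at h4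
        exact eq_inv_of_mul_eq_one_left h4
    have hsub : (N : Set G) ⊆ {1, g, g⁻¹} := by
      intro x hx
      by_cases hx1 : x = 1
      · exact Or.inl hx1
      · obtain ⟨u, hu, rfl⟩ := horb g hgN hg1 x hx hx1
        exact Or.inr (hle u hu)
    have h3 : Nat.card N ≤ ({1, g, g⁻¹} : Set G).ncard :=
      (Set.ncard_le_ncard hsub (Set.toFinite _))
    have h4 : ({1, g, g⁻¹} : Set G).ncard ≤ 3 := by
      refine (Set.ncard_insert_le _ _).trans (Nat.succ_le_succ ?_)
      exact (Set.ncard_insert_le _ _).trans (by rw [Set.ncard_singleton])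
    omega
  · have h2N : 2 ∣ Nat.card N := by omega
    obtain ⟨t, ht⟩ := exists_prime_orderOf_dvd_card' (G := N) 2 h2N
    have hr2 : r = 2 := by
      rw [← hexp (t : G) t.2 (fun e' => by
        rw [← Subgroup.orderOf_coe, e', orderOf_one] at ht; omega), Subgroup.orderOf_coe, ht]
    omega

/-- The Zassenhaus group on the Sylow subgroups. -/
theorem isZassenhaus (h : Data G p f) [Fact p.Prime] : Cfsg.IsZassenhausGroup G (Sylow p G) := by
  refine ⟨h.faithful, h.two_pretransitive, h.fix_three, ?_, h.exists_stabilizer_ne_bot⟩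
  obtain ⟨a⟩ : Nonempty (Sylow p G) := inferInstance
  obtain ⟨b, hb⟩ := h.exists_ne_sylow a
  obtain ⟨x, hx, hx1⟩ := (Subgroup.bot_or_exists_ne_one (stabilizer G a ⊓ stabilizer G b)).resolve_left
    fun e => by
      have h1 := h.le_card_stabilizer (Ne.symm hb)
      rw [e, Subgroup.card_bot] at h1
      have := h.q_gt
      omega
  exact ⟨x, hx1, a, b, Ne.symm hb, hx.1, hx.2⟩

end Data

end CfsgLib.PSLTwoSpectrum
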